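import Mathlib

/-!
Degree bounds for the last matrix of a resolution of length two which is split outside a proper
closed subset of codimension two.
-/

set_option autoImplicit false

universe u

open Matrix

namespace Groth.Agent.HBLib

/-- The lower right square of a matrix with a row more than columns. -/
def corner {R : Type u} {t : ℕ} (φ : Matrix (Fin (t + 1)) (Fin t) R) (i : Fin t) :
    Matrix {l : Fin t // i ≤ l} {l : Fin t // i ≤ l} R :=
  φ.submatrix (fun l => l.1.succ) (fun l => l.1)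

theorem exists_kernel {R : Type u} [CommRing R] [IsDomain R] {t : ℕ} (φ : Matrix (Fin (t + 1)) (Fin t) R)
    (i : Fin t) (hz : ∀ (κ : Fin (t + 1)) (l : Fin t), κ ≤ i.castSucc → i ≤ l → φ κ l = 0)
    (hdet : (corner φ i).det = 0) : ∃ w : Fin t → R, w ≠ 0 ∧ φ *ᵥ w = 0 := by
  classical
  obtain ⟨v, hv0, hv⟩ := Matrix.exists_mulVec_eq_zero_iff.2 hdet
  let w : Fin t → R := fun l => if h : i ≤ l then v ⟨l, h⟩ else 0
  refine ⟨w, fun h => hv0 (funext fun l => ?_), funext fun κ => ?_⟩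
  · have := congrFun h l.1
    simpa [w, l.2] using this
  show ∑ l, φ κ l * w l = 0
  rcases le_or_gt κ i.castSucc with hκ | hκ
  · refine Finset.sum_eq_zero fun l _ => ?_
    by_cases hl : i ≤ l
    · rw [hz κ l hκ hl, zero_mul]
    · simp [w, hl]
  · obtain ⟨j, rfl⟩ : ∃ j : Fin t, j.succ = κ :=
      ⟨κ.pred (fun h => by simp [h] at hκ), Fin.succ_pred _ _⟩
    have hj : i ≤ j := by
      rw [Fin.lt_def] at hκ
      rw [Fin.le_def]
      simp only [Fin.val_castSucc, Fin.val_succ] at hκ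
      omega
    have h0 : ∑ l : {l : Fin t // i ≤ l}, φ j.succ l.1 * v l = 0 := congrFun hv ⟨j, hj⟩
    rw [← h0]
    symm
    refine Finset.sum_bij_ne_zero (fun l _ _ => l.1) (fun _ _ _ => Finset.mem_univ _)
      (fun _ _ _ _ _ _ h => Subtype.ext h) (fun l _ hl => ?_) fun l _ _ => ?_
    · by_cases h : i ≤ l
      · exact ⟨⟨l, h⟩, Finset.mem_univ _, by simpa [w, h] using hl, rfl⟩
      · simp [w, h] at hl
    · simp [w, l.2]

/-- The degree bound. -/
theorem lt_deg {R : Type u} [CommRing R] [IsDomain R] [UniqueFactorizationMonoid R] (m : Ideal R) (hm : m ≠ ⊤)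
    {t : ℕ} (A : Fin (t + 1) → ℤ) (B : Fin t → ℤ) (hA : ∀ i j, i ≤ j → A j ≤ A i) (hB : ∀ i j, i ≤ j → B j ≤ B i)
    (φ : Matrix (Fin (t + 1)) (Fin t) R) (hmem : ∀ κ l, φ κ l ∈ m) (hzero : ∀ κ l, B l ≤ A κ → φ κ l = 0)
    (hinj : ∀ w : Fin t → R, φ *ᵥ w = 0 → w = 0)
    (hsplit : ∀ q : R, Prime q → ∃ (g : R) (W : Matrix (Fin t) (Fin (t + 1)) R), ¬ q ∣ g ∧ W * φ = g • 1)
    (i : Fin t) : A i.castSucc < B i := by
  classical
  by_contra hcon
  rw [not_lt] at hcon
  have hz : ∀ (κ : Fin (t + 1)) (l : Fin t), κ ≤ i.castSucc → i ≤ l → φ κ l = 0 := fun κ l h1 h2 =>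
    hzero κ l (((hB i l h2).trans hcon).trans (hA κ _ h1))
  have hdet : (corner φ i).det ≠ 0 := fun h => by
    obtain ⟨w, hw, hw0⟩ := exists_kernel φ i hz h
    exact hw (hinj w hw0)
  have hdm : (corner φ i).det ∈ m := by
    haveI : Nonempty {l : Fin t // i ≤ l} := ⟨⟨i, le_rfl⟩⟩
    rw [← Ideal.Quotient.eq_zero_iff_mem, RingHom.map_det]
    rw [show (Ideal.Quotient.mk m).mapMatrix (corner φ i) = 0 from
      Matrix.ext fun κ l => Ideal.Quotient.eq_zero_iff_mem.2 (hmem _ _), Matrix.det_zero]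
  have hnu : ¬ IsUnit (corner φ i).det := fun h => hm (Ideal.eq_top_of_isUnit_mem _ hdm h)
  obtain ⟨q, hqi, hqd⟩ := WfDvdMonoid.exists_irreducible_factor hnu hdet
  have hq : Prime q := hqi.prime
  obtain ⟨g, W, hqg, hW⟩ := hsplit q hq
  haveI : (Ideal.span {q}).IsPrime := (Ideal.span_singleton_prime hq.ne_zero).2 hq
  let π := Ideal.Quotient.mk (Ideal.span {q})
  obtain ⟨w, hw, hw0⟩ := exists_kernel (φ.map π) i (fun κ l h1 h2 => by simp [hz κ l h1 h2]) (by
    rw [show corner (φ.map π) i = π.mapMatrix (corner φ i) from rfl, ← RingHom.map_det]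
    exact Ideal.Quotient.eq_zero_iff_mem.2 (Ideal.mem_span_singleton.2 hqd))
  have hg : π g ≠ 0 := fun h => hqg (Ideal.mem_span_singleton.1 (Ideal.Quotient.eq_zero_iff_mem.1 h))
  have h2 : π g • w = 0 := by
    have h3 : W.map π * φ.map π = π g • (1 : Matrix (Fin t) (Fin t) (R ⧸ Ideal.span {q})) := by
      rw [← Matrix.map_mul, hW]
      ext a b
      simp [Matrix.one_apply, apply_ite π]
    have h4 := congrArg (fun X : Matrix (Fin t) (Fin t) (R ⧸ Ideal.span {q}) => X *ᵥ w) h3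
    simp only [← Matrix.mulVec_mulVec, hw0, Matrix.mulVec_zero, Matrix.smul_mulVec, Matrix.one_mulVec] at h4
    exact h4.symm
  exact hw ((smul_eq_zero.1 h2).resolve_left hg)

/-- A homotopy for multiplication by a scalar killing the module. -/
theorem exists_split {R : Type u} [CommRing R] {n₁ n₂ : Type} [Fintype n₁] [Fintype n₂] [DecidableEq n₁]
    [DecidableEq n₂] (ψ : n₁ → R) (φ : Matrix n₁ n₂ R) (hψφ : ∀ w : n₂ → R, ∑ a, ψ a * (φ *ᵥ w) a = 0)
    (hker : ∀ v : n₁ → R, ∑ a, ψ a * v a = 0 → ∃ w, φ *ᵥ w = v)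
    (hinj : ∀ w : n₂ → R, φ *ᵥ w = 0 → w = 0) (g : R) (h : n₁ → R) (hh : ∑ a, ψ a * h a = g) :
    ∃ W : Matrix n₂ n₁ R, W * φ = g • 1 := by
  classical
  let s : n₁ → n₁ → R := fun b => g • Pi.single b 1 - ψ b • h
  have hs : ∀ b, ∃ w, φ *ᵥ w = s b := fun b => hker _ (by
    simp only [s, Pi.sub_apply, Pi.smul_apply, smul_eq_mul, mul_sub, Finset.sum_sub_distrib,
      Pi.single_apply, mul_ite, mul_one, mul_zero, Finset.sum_ite_eq', Finset.mem_univ, if_true,
      mul_left_comm, ← Finset.mul_sum, hh]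
    ring)
  choose W hW using hs
  have hlin : ∀ v : n₁ → R, φ *ᵥ ((Matrix.of fun a b => W b a) *ᵥ v) = g • v - (∑ a, ψ a * v a) • h := fun v => by
    have h1 : φ * (Matrix.of fun a b => W b a) = Matrix.of fun a b => s b a :=
      Matrix.ext fun a b => congrFun (hW b) a
    rw [Matrix.mulVec_mulVec, h1]
    funext a
    show ∑ b, s b a * v b = _
    simp only [s, Pi.sub_apply, Pi.smul_apply, smul_eq_mul, sub_mul, Finset.sum_sub_distrib, Pi.single_apply,
      mul_ite, mul_one, mul_zero, ite_mul, zero_mul, Finset.sum_ite_eq, Finset.mem_univ, if_true,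
      Finset.sum_mul]
    congr 1
    exact Finset.sum_congr rfl fun b _ => by ring
  refine ⟨Matrix.of fun a b => W b a, Matrix.ext_of_mulVec_single fun b => ?_⟩
  rw [← Matrix.mulVec_mulVec]
  refine sub_eq_zero.1 (hinj _ ?_)
  rw [Matrix.mulVec_sub, hlin, hψφ, zero_smul, sub_zero, Matrix.smul_mulVec, Matrix.one_mulVec,
    Matrix.mulVec_smul, sub_self]

end Groth.Agent.HBLib
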