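import Mathlib
import Groth.Agent.GrSyzLib.Hilbert
import Groth.Agent.GrSyzLib.Tor

/-!
The vanishing ideal of finitely many points of the projective plane.
-/

set_option autoImplicit false

universe u

open MvPolynomial

namespace Groth.Agent.HBLib

variable {k : Type u} [Field k] (Z : Finset (Fin 3 → k)) (I : Ideal (MvPolynomial (Fin 3) k))
  (hI : ∀ f : MvPolynomial (Fin 3) k, f ∈ I ↔
      ∀ p ∈ Z, ∀ j : ℕ, MvPolynomial.eval p (MvPolynomial.homogeneousComponent j f) = 0)

include hI in
theorem mem_of_homogeneous {f : MvPolynomial (Fin 3) k} {n : ℕ} (hf : f.IsHomogeneous n)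
    (h : ∀ p ∈ Z, MvPolynomial.eval p f = 0) : f ∈ I := by
  rw [hI]
  intro p hp j
  rw [MvPolynomial.homogeneousComponent_of_mem hf]
  split_ifs
  · exact h p hp
  · exact map_zero _

include hI in
theorem constantCoeff_eq_zero (hZne : Z.Nonempty) {f : MvPolynomial (Fin 3) k} (hf : f ∈ I) :
    MvPolynomial.constantCoeff f = 0 := by
  obtain ⟨p, hp⟩ := hZne
  have h := (hI f).1 hf p hp 0
  rwa [MvPolynomial.homogeneousComponent_zero, MvPolynomial.eval_C, ← MvPolynomial.constantCoeff_eq] at h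

/-- Two independent linear forms through a point have no common prime factor. -/
theorem exists_form (p : Fin 3 → k) (hp : p ≠ 0) (q : MvPolynomial (Fin 3) k) (hq : Prime q) :
    ∃ u : MvPolynomial (Fin 3) k, u.IsHomogeneous 1 ∧ MvPolynomial.eval p u = 0 ∧ ¬ q ∣ u := by
  classical
  obtain ⟨j, hj⟩ : ∃ j, p j ≠ 0 := Function.ne_iff.1 hp
  obtain ⟨l₁, l₂, hl₁, hl₂, hl⟩ : ∃ l₁ l₂ : Fin 3, l₁ ≠ j ∧ l₂ ≠ j ∧ l₁ ≠ l₂ := by
    fin_cases j
    · exact ⟨1, 2, by decide, by decide, by decide⟩
    · exact ⟨0, 2, by decide, by decide, by decide⟩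
    · exact ⟨0, 1, by decide, by decide, by decide⟩
  let u : Fin 3 → MvPolynomial (Fin 3) k := fun l => C (p j) * X l - C (p l) * X j
  have hu : ∀ l, (u l).IsHomogeneous 1 := fun l =>
    (MvPolynomial.isHomogeneous_C_mul_X _ _).sub (MvPolynomial.isHomogeneous_C_mul_X _ _)
  have hev : ∀ l, MvPolynomial.eval p (u l) = 0 := fun l => by simp [u, mul_comm]
  have hc1 : ∀ l l' : Fin 3, l' ≠ j → (u l).coeff (Finsupp.single l' 1) = if l = l' then p j else 0 := fun l l' h => by
    have e : Finsupp.single j 1 ≠ Finsupp.single l' (1 : ℕ) := fun e => h ((Finsupp.single_left_injective one_ne_zero e).symm)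
    simp only [u, MvPolynomial.coeff_sub, MvPolynomial.coeff_C_mul, MvPolynomial.coeff_X', e, if_false, mul_zero, sub_zero]
    by_cases hll : l = l'
    · subst hll; simp
    · have : Finsupp.single l 1 ≠ Finsupp.single l' (1 : ℕ) := fun e => hll (Finsupp.single_left_injective one_ne_zero e)
      simp [this, hll]
  by_contra hcon
  push Not at hcon
  have hfac : ∀ l : Fin 3, l ≠ j → ∃ c : k, u l = q * C c := fun l hl' => by
    obtain ⟨c, hc⟩ := hcon (u l) (hu l) (hev l)
    have hne : u l ≠ 0 := fun h0 => by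
      have := hc1 l l hl'
      rw [h0, MvPolynomial.coeff_zero, if_pos rfl] at this
      exact hj this.symm
    have hq0 : q ≠ 0 := hq.ne_zero
    have hc0 : c ≠ 0 := fun h0 => hne (by rw [hc, h0, mul_zero])
    have hdeg : q.totalDegree + c.totalDegree = 1 := by
      rw [← MvPolynomial.totalDegree_mul_of_isDomain hq0 hc0, ← hc]
      exact (hu l).totalDegree hne
    have hqd : q.totalDegree ≠ 0 := fun h0 => hq.not_unit (by
      rw [MvPolynomial.totalDegree_eq_zero_iff_eq_C.1 h0]
      refine IsUnit.map C (isUnit_iff_ne_zero.2 fun h => hq0 ?_)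
      rw [MvPolynomial.totalDegree_eq_zero_iff_eq_C.1 h0, h, map_zero])
    exact ⟨MvPolynomial.coeff 0 c, by rw [hc, MvPolynomial.totalDegree_eq_zero_iff_eq_C.1 (by omega : c.totalDegree = 0)]; simp⟩
  obtain ⟨c₁, h₁⟩ := hfac l₁ hl₁
  obtain ⟨c₂, h₂⟩ := hfac l₂ hl₂
  have e1 := congrArg (MvPolynomial.coeff (Finsupp.single l₁ 1)) h₁
  have e2 := congrArg (MvPolynomial.coeff (Finsupp.single l₁ 1)) h₂
  have e3 := congrArg (MvPolynomial.coeff (Finsupp.single l₂ 1)) h₂
  rw [hc1 _ _ hl₁, if_pos rfl, mul_comm q, MvPolynomial.coeff_C_mul] at e1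
  rw [hc1 _ _ hl₁, if_neg hl.symm, mul_comm q, MvPolynomial.coeff_C_mul] at e2
  rw [hc1 _ _ hl₂, if_pos rfl, mul_comm q, MvPolynomial.coeff_C_mul] at e3
  rcases mul_eq_zero.1 e2.symm with h | h
  · exact hj (by rw [e3, h, zero_mul])
  · exact hj (by rw [e1, h, mul_zero])

include hI in
/-- The vanishing ideal is contained in no height one prime. -/
theorem exists_mem_not_dvd (hZ : ∀ p ∈ Z, p ≠ 0) (q : MvPolynomial (Fin 3) k) (hq : Prime q) :
    ∃ g ∈ I, ¬ q ∣ g := by
  classical
  choose u hu hev hnd using fun p : Z => exists_form p.1 (hZ p.1 p.2) q hq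
  refine ⟨∏ p, u p, mem_of_homogeneous Z I hI (MvPolynomial.IsHomogeneous.prod _ _ _ fun p _ => hu p) fun p hp => ?_,
    fun h => ?_⟩
  · rw [map_prod]
    exact Finset.prod_eq_zero (Finset.mem_univ ⟨p, hp⟩) (hev _)
  · obtain ⟨p, -, hp⟩ := hq.exists_mem_finset_dvd h
    exact hnd p hp

/-- A homogeneous polynomial for the integral grading. -/
theorem isHomogeneous_of_mem_stdGr {f : MvPolynomial (Fin 3) k} {n : ℕ} (hf : f ∈ GrSyz.stdGr k (Fin 3) (n : ℤ)) :
    f.IsHomogeneous n := by
  intro d hd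
  have h := hf hd
  simp only [Finsupp.weight, Finsupp.linearCombination_apply, LinearMap.toAddMonoidHom_coe,
    Finsupp.sum, smul_eq_mul, mul_one, Pi.one_apply, nsmul_eq_mul] at h ⊢
  exact_mod_cast h

variable {M : Type u} [AddCommGroup M] [Module k M] [Module (MvPolynomial (Fin 3) k) M]
  [IsScalarTower k (MvPolynomial (Fin 3) k) M]
  {ℳ : ℤ → Submodule k M} [DirectSum.Decomposition ℳ] [SetLike.GradedSMul (GrSyz.stdGr k (Fin 3)) ℳ]

include hI in
/-- The Hilbert function is bounded by the number of points. -/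
theorem finrank_le (π : MvPolynomial (Fin 3) k →ₗ[MvPolynomial (Fin 3) k] M) (hπ : Function.Surjective π)
    (hπg : GrLC.IsGrHom (GrSyz.stdGr k (Fin 3)) ℳ π) (hker : LinearMap.ker π = I) (d : ℕ) :
    Module.finrank k ↥(ℳ (d : ℤ)) ≤ Z.card := by
  classical
  let S := MvPolynomial (Fin 3) k
  let P : Submodule k S := GrSyz.stdGr k (Fin 3) (d : ℤ)
  haveI : Module.Finite k P := GrSyzLib.finite_stdGr (r := 2) (d : ℤ)
  let ev : P →ₗ[k] (Z → k) :=
    { toFun := fun f p => MvPolynomial.eval (p : Fin 3 → k) (f : S)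
      map_add' := fun f g => funext fun p => by simp
      map_smul' := fun c f => funext fun p => by
        show MvPolynomial.eval (p : Fin 3 → k) (c • (f : S)) = c * MvPolynomial.eval (p : Fin 3 → k) (f : S)
        rw [MvPolynomial.smul_eval] }
  let g : P →ₗ[k] ↥(ℳ (d : ℤ)) :=
    LinearMap.codRestrict _ ((π.restrictScalars k).comp P.subtype) fun f => hπg _ _ f.2
  have hgs : Function.Surjective g := fun m => by
    obtain ⟨x, hx⟩ := hπ m
    refine ⟨⟨(DirectSum.decompose (GrSyz.stdGr k (Fin 3)) x (d : ℤ) : S), Submodule.coe_mem _⟩, Subtype.ext ?_⟩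
    show π (DirectSum.decompose (GrSyz.stdGr k (Fin 3)) x (d : ℤ) : S) = (m : M)
    have h : ∀ y : S, π (DirectSum.decompose (GrSyz.stdGr k (Fin 3)) y (d : ℤ) : S) =
        (DirectSum.decompose ℳ (π y) (d : ℤ) : M) := fun y => by
      induction y using DirectSum.Decomposition.inductionOn (GrSyz.stdGr k (Fin 3)) with
      | zero => simp
      | @homogeneous a z =>
        rcases eq_or_ne a (d : ℤ) with rfl | hne
        · rw [DirectSum.decompose_of_mem_same _ z.2, DirectSum.decompose_of_mem_same _ (hπg _ _ z.2)]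
        · rw [DirectSum.decompose_of_mem_ne _ z.2 hne, DirectSum.decompose_of_mem_ne _ (hπg _ _ z.2) hne, map_zero]
      | add a b ha hb =>
        simp only [DirectSum.decompose_add, DirectSum.add_apply, Submodule.coe_add, map_add, ha, hb]
    rw [h, hx, DirectSum.decompose_of_mem_same _ m.2]
  have hle : LinearMap.ker ev ≤ LinearMap.ker g := fun f hf => by
    refine Subtype.ext ?_
    have : (f : S) ∈ LinearMap.ker π := by
      rw [hker]
      exact mem_of_homogeneous Z I hI (isHomogeneous_of_mem_stdGr f.2) fun p hp => congrFun hf ⟨p, hp⟩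
    exact this
  have h1 := g.finrank_range_add_finrank_ker
  have h2 := ev.finrank_range_add_finrank_ker
  rw [LinearMap.range_eq_top.2 hgs, finrank_top] at h1
  have h3 : Module.finrank k (LinearMap.range ev) ≤ Z.card := by
    refine (Submodule.finrank_le _).trans (le_of_eq ?_)
    rw [Module.finrank_pi, Fintype.card_coe]
  have h4 := Submodule.finrank_mono hle
  omega

end Groth.Agent.HBLib
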